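import Mathlib

/-!
# S1920: eigenspaces of anticommuting elements in a representation (helper754)
-/

set_option autoImplicit false

namespace Cfsg.Agent.H754.Co3

open Module

variable {k : Type*} [Field k] {Γ : Type*} [Group Γ] {U : Type*} [AddCommGroup U] [Module k U]
  (ρ : Γ →* (U →ₗ[k] U))

/-- the eigenspace of `t` in `E` -/
def ev (t : Γ) (d : k) (E : Submodule k U) : Submodule k U := E ⊓ LinearMap.ker (ρ t - d • (LinearMap.id : U →ₗ[k] U))

theorem mem_ev {t : Γ} {d : k} {E : Submodule k U} {u : U} : u ∈ ev ρ t d E ↔ u ∈ E ∧ ρ t u = d • u := by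
  rw [ev, Submodule.mem_inf, LinearMap.mem_ker, LinearMap.sub_apply, LinearMap.smul_apply, LinearMap.id_apply, sub_eq_zero]

theorem inv_app (g : Γ) (u : U) : ρ g (ρ g⁻¹ u) = u := by
  have : ρ g * ρ g⁻¹ = 1 := by rw [← map_mul, mul_inv_cancel, map_one]
  exact LinearMap.congr_fun this u

theorem app_inv (g : Γ) (u : U) : ρ g⁻¹ (ρ g u) = u := by
  have : ρ g⁻¹ * ρ g = 1 := by rw [← map_mul, inv_mul_cancel, map_one]
  exact LinearMap.congr_fun this u

/-- `t` has eigenvalues `d`, `-d` on `E`, interchanged by `g` -/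
structure Anti (t : Γ) (d : k) (E : Submodule k U) (g : Γ) : Prop where
  two : (2 : k) ≠ 0
  dne : d ≠ 0
  sq : ∀ u ∈ E, ρ t (ρ t u) = (d * d) • u
  tE : ∀ u ∈ E, ρ t u ∈ E
  gE : ∀ u ∈ E, ρ g u ∈ E
  gE' : ∀ u ∈ E, ρ g⁻¹ u ∈ E
  anti : ∀ u, ρ t (ρ g u) = -ρ g (ρ t u)

variable {ρ}

namespace Anti

variable {t g : Γ} {d : k} {E : Submodule k U}

theorem anti' (h : Anti ρ t d E g) (u : U) : ρ t (ρ g⁻¹ u) = -ρ g⁻¹ (ρ t u) := by
  have h1 := h.anti (ρ g⁻¹ u)
  rw [inv_app] at h1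
  rw [h1, map_neg, neg_neg, app_inv]

theorem dec (h : Anti ρ t d E g) {u : U} (hu : u ∈ E) : ∃ x ∈ ev ρ t d E, ∃ y ∈ ev ρ t (-d) E, u = x + y := by
  have h2 := h.two
  have hd := h.dne
  have hsq := h.sq u hu
  refine ⟨(2 : k)⁻¹ • (u + d⁻¹ • ρ t u), (mem_ev ρ).2 ⟨E.smul_mem _ (E.add_mem hu (E.smul_mem _ (h.tE u hu))), ?_⟩,
    (2 : k)⁻¹ • (u - d⁻¹ • ρ t u), (mem_ev ρ).2 ⟨E.smul_mem _ (E.sub_mem hu (E.smul_mem _ (h.tE u hu))), ?_⟩, ?_⟩
  · rw [map_smul, map_add, map_smul, hsq]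
    match_scalars <;> field_simp
  · rw [map_smul, map_sub, map_smul, hsq]
    match_scalars <;> field_simp
  · rw [← smul_add]
    have : u + d⁻¹ • ρ t u + (u - d⁻¹ • ρ t u) = (2 : k) • u := by
      rw [two_smul]; abel
    rw [this, smul_smul, inv_mul_cancel₀ h2, one_smul]

theorem map_pos (h : Anti ρ t d E g) {u : U} (hu : u ∈ ev ρ t d E) : ρ g u ∈ ev ρ t (-d) E := by
  rw [mem_ev] at hu ⊢
  exact ⟨h.gE u hu.1, by rw [h.anti, hu.2, map_smul, neg_smul]⟩

theorem map_neg' (h : Anti ρ t d E g) {u : U} (hu : u ∈ ev ρ t (-d) E) : ρ g⁻¹ u ∈ ev ρ t d E := by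
  rw [mem_ev] at hu ⊢
  exact ⟨h.gE' u hu.1, by rw [h.anti', hu.2, map_smul, neg_smul, neg_neg]⟩

/-- the eigenspace has half the dimension -/
theorem half [Module.Finite k U] (h : Anti ρ t d E g) : finrank k E = 2 * finrank k (ev ρ t d E) := by
  have hinf : ev ρ t d E ⊓ ev ρ t (-d) E = ⊥ := by
    rw [eq_bot_iff]
    rintro u ⟨h1, h2⟩
    have e1 := ((mem_ev ρ).1 h1).2
    have e2 := ((mem_ev ρ).1 h2).2
    rw [e1] at e2
    have h3 : ((2 : k) * d) • u = 0 := by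
      have : ((2 : k) * d) • u = d • u - (-d) • u := by
        rw [← sub_smul]; congr 1; ring
      rw [this, ← e2, sub_self]
    exact (smul_eq_zero.1 h3).resolve_left (mul_ne_zero h.two h.dne)
  have hsup : ev ρ t d E ⊔ ev ρ t (-d) E = E := by
    apply le_antisymm (sup_le inf_le_left inf_le_left)
    intro u hu
    obtain ⟨x, hx, y, hy, rfl⟩ := h.dec hu
    exact Submodule.add_mem_sup hx hy
  have h1 := Submodule.finrank_sup_add_finrank_inf_eq (ev ρ t d E) (ev ρ t (-d) E)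
  rw [hinf, hsup, finrank_bot, add_zero] at h1
  have i1 : finrank k (ev ρ t d E) ≤ finrank k (ev ρ t (-d) E) := by
    refine LinearMap.finrank_le_finrank_of_injective (f := (ρ g).restrict (p := ev ρ t d E) (q := ev ρ t (-d) E)
      fun u hu => h.map_pos hu) ?_
    intro x y hxy
    apply Subtype.ext
    have h3 : ρ g x = ρ g y := congrArg Subtype.val hxy
    rw [← app_inv ρ g x, h3, app_inv]
  have i2 : finrank k (ev ρ t (-d) E) ≤ finrank k (ev ρ t d E) := by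
    refine LinearMap.finrank_le_finrank_of_injective (f := (ρ g⁻¹).restrict (p := ev ρ t (-d) E) (q := ev ρ t d E)
      fun u hu => h.map_neg' hu) ?_
    intro x y hxy
    apply Subtype.ext
    have h3 : ρ g⁻¹ x = ρ g⁻¹ y := congrArg Subtype.val hxy
    rw [← inv_app ρ g x, h3, inv_app]
  omega

/-- an operator commuting with `g`, trivial on the eigenspace, is trivial -/
theorem triv (h : Anti ρ t d E g) {x : U →ₗ[k] U} (hx : ∀ u ∈ ev ρ t d E, x u = u) (hxg : ∀ u, x (ρ g u) = ρ g (x u)) :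
    ∀ u ∈ E, x u = u := by
  intro u hu
  obtain ⟨v, hv, w, hw, rfl⟩ := h.dec hu
  rw [map_add, hx v hv]
  congr 1
  have h1 := hx _ (h.map_neg' hw)
  have h2 := hxg (ρ g⁻¹ w)
  rw [h1, inv_app] at h2
  exact h2

end Anti

end Cfsg.Agent.H754.Co3
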