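import Cfsg.Agent.H754.Co3.Frame
import Cfsg.Agent.H754.Co3.SLTwo

/-!
# S1920: elements of order 5 (helper754)

* `c5`, `u4` : a 5-cycle and an odd permutation with `u4 c5² = c5 u4`;
* `no_conj` : `c5^{±2}` is not conjugate to `c5^{±1}` by an even permutation;
* `no_five` : a finite group `D` with a homomorphism to `SL₂(k)`, `char k ≠ 5`, and `ψ : D → A₆`, `ker f ≤ ker ψ`:
  5-elements `x, y` with `ψ x = c5`, `ψ y = c5²` or `c5³` have different traces;
* `five_part`, `exists_pair` : such elements exist in case B.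
-/

set_option autoImplicit false

open Subgroup

namespace Cfsg.Agent.H754.Co3

open Cfsg.Agent.H13.Co3 Matrix

/-- the 5-cycle `0 → 1 → 2 → 3 → 4 → 0` -/
def c5 : Equiv.Perm (Fin 6) where
  toFun := ![1, 2, 3, 4, 0, 5]
  invFun := ![4, 0, 1, 2, 3, 5]
  left_inv := by decide
  right_inv := by decide

/-- the 4-cycle `i → 3 i` modulo 5 -/
def u4 : Equiv.Perm (Fin 6) where
  toFun := ![0, 3, 1, 4, 2, 5]
  invFun := ![0, 2, 4, 1, 3, 5]
  left_inv := by decide
  right_inv := by decide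

/-- the involution `i → -i` modulo 5 -/
def v2 : Equiv.Perm (Fin 6) where
  toFun := ![0, 4, 3, 2, 1, 5]
  invFun := ![0, 4, 3, 2, 1, 5]
  left_inv := by decide
  right_inv := by decide

theorem c5_pow : c5 ^ 5 = 1 := by decide

theorem sign_c5 : Equiv.Perm.sign c5 = 1 := by decide

theorem sign_u4 : Equiv.Perm.sign u4 = -1 := by decide

theorem sign_v2 : Equiv.Perm.sign v2 = 1 := by decide

theorem u4_c5 : u4 * c5 ^ 2 = c5 * u4 := by decide

theorem u4_conj : u4 * c5 * u4⁻¹ = c5 ^ 3 := by decide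

theorem v2_c5 : v2 * c5 * v2⁻¹ = c5⁻¹ := by decide

theorem c5_fix : ∀ b : Fin 6, c5 b = b → b = 5 := by decide

theorem c5_orb : ∀ b : Fin 6, b ≠ 5 → ∃ n : Fin 5, (c5 ^ (n : ℕ)) 0 = b := by decide

/-- the centralizer of `c5` -/
theorem cent_c5 {w : Equiv.Perm (Fin 6)} (h : w * c5 = c5 * w) : ∃ n : ℕ, w = c5 ^ n := by
  have hw : ∀ (n : ℕ) (i : Fin 6), w ((c5 ^ n) i) = (c5 ^ n) (w i) := by
    intro n i
    have h1 : w * c5 ^ n = c5 ^ n * w := (show Commute w c5 from h).pow_right n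
    exact Equiv.congr_fun h1 i
  have h5 : w 5 = 5 := by
    apply c5_fix
    have := hw 1 5
    rw [pow_one] at this
    rw [← this]
    rfl
  have h0 : w 0 ≠ 5 := by
    intro h
    have := w.injective (h.trans h5.symm)
    revert this
    decide
  obtain ⟨n, hn⟩ := c5_orb _ h0
  refine ⟨n, Equiv.ext fun i => ?_⟩
  by_cases hi : i = 5
  · rw [hi, h5]
    have : ∀ m : ℕ, (c5 ^ m) 5 = 5 := by
      intro m
      induction m with
      | zero => rfl
      | succ m ih =>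
        rw [pow_succ, Equiv.Perm.mul_apply]
        exact ih
    rw [this]
  · obtain ⟨j, hj⟩ := c5_orb i hi
    rw [← hj, hw, ← hn, ← Equiv.Perm.mul_apply, ← Equiv.Perm.mul_apply, ← pow_add, ← pow_add, add_comm]

theorem no_conj {π : Equiv.Perm (Fin 6)} (hπ : Equiv.Perm.sign π = 1) : π * c5 ^ 2 ≠ c5 * π := by
  intro h
  have h1 : (π * u4⁻¹) * c5 = c5 * (π * u4⁻¹) := by
    have h2 : c5 = u4 * c5 ^ 2 * u4⁻¹ := by rw [u4_c5, mul_inv_cancel_right]
    calc π * u4⁻¹ * c5 = π * u4⁻¹ * (u4 * c5 ^ 2 * u4⁻¹) := by rw [← h2]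
      _ = π * c5 ^ 2 * u4⁻¹ := by group
      _ = c5 * (π * u4⁻¹) := by rw [h, mul_assoc]
  obtain ⟨n, hn⟩ := cent_c5 h1
  have h2 := congrArg Equiv.Perm.sign hn
  rw [map_mul, map_inv, hπ, sign_u4, map_pow, sign_c5, one_pow, one_mul] at h2
  revert h2
  decide

/-- `c5^{±2}` is not conjugate to `c5^{±1}` by an even permutation -/
theorem no_conj' {π y : Equiv.Perm (Fin 6)} (hπ : Equiv.Perm.sign π = 1) (hy : y = c5 ^ 2 ∨ y = c5 ^ 3) :
    π * y * π⁻¹ ≠ c5 ∧ π * y * π⁻¹ ≠ c5⁻¹ := by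
  have key : ∀ π : Equiv.Perm (Fin 6), Equiv.Perm.sign π = 1 → π * c5 ^ 2 * π⁻¹ ≠ c5 ∧ π * c5 ^ 2 * π⁻¹ ≠ c5⁻¹ := by
    intro π hπ
    refine ⟨fun h => no_conj hπ (mul_inv_eq_iff_eq_mul.1 h), fun h => ?_⟩
    have h1 : Equiv.Perm.sign (v2 * π) = 1 := by rw [map_mul, sign_v2, hπ, one_mul]
    refine no_conj h1 ?_
    rw [← mul_inv_eq_iff_eq_mul]
    calc v2 * π * c5 ^ 2 * (v2 * π)⁻¹ = v2 * (π * c5 ^ 2 * π⁻¹) * v2⁻¹ := by group
      _ = (v2 * c5 * v2⁻¹)⁻¹ := by rw [h]; group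
      _ = c5 := by rw [v2_c5, inv_inv]
  rcases hy with rfl | rfl
  · exact key π hπ
  · have h3 : c5 ^ 3 = (c5 ^ 2)⁻¹ := by decide
    have h4 : π * c5 ^ 3 * π⁻¹ = (π * c5 ^ 2 * π⁻¹)⁻¹ := by rw [h3]; group
    rw [h4]
    refine ⟨fun h => (key π hπ).2 ?_, fun h => (key π hπ).1 ?_⟩
    · exact inv_eq_iff_eq_inv.1 h
    · exact inv_injective h

/-- **the lemma on 5-elements** -/
theorem no_five {k : Type*} [Field k] (h5 : (5 : k) ≠ 0) {D : Type*} [Group D] [Finite D]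
    (f : D →* SpecialLinearGroup (Fin 2) k) (ψ : D →* Equiv.Perm (Fin 6)) (hf : ∀ d, f d = 1 → ψ d = 1)
    (h0 : ∀ d, Equiv.Perm.sign (ψ d) = 1) {x y : D} (hx5 : ∃ n, x ^ 5 ^ n = 1) (hy5 : ∃ n, y ^ 5 ^ n = 1)
    (htr : (f x).1.trace = (f y).1.trace) (hx : ψ x = c5) (hy : ψ y = c5 ^ 2 ∨ ψ y = c5 ^ 3) : False := by
  have hp5 : Fact (Nat.Prime 5) := ⟨Nat.prime_five⟩
  let K := AlgebraicClosure k
  let ι : SpecialLinearGroup (Fin 2) k →* SpecialLinearGroup (Fin 2) K := SpecialLinearGroup.map (algebraMap k K)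
  have hι : Function.Injective ι := by
    intro A B hAB
    apply Subtype.ext
    have h1 := congrArg Subtype.val hAB
    ext i j
    have h2 := congrFun (congrFun h1 i) j
    exact (algebraMap k K).injective h2
  let F : D →* SpecialLinearGroup (Fin 2) K := ι.comp f
  have hF : ∀ d, F d = 1 → ψ d = 1 := fun d hd => hf d (hι (by rw [map_one]; exact hd))
  have htrF : ∀ d, (F d).1.trace = algebraMap k K (f d).1.trace := by
    intro d
    rw [trace_fin_two, trace_fin_two, map_add]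
    rfl
  have h5K : ((5 : ℕ) : K) ≠ 0 := by
    intro h
    apply h5
    apply (algebraMap k K).injective
    rw [map_zero, ← h]
    push_cast
    exact map_ofNat _ 5
  have hzp : ∀ g : D, (∃ n, g ^ 5 ^ n = 1) → IsPGroup 5 (zpowers g) := by
    rintro g ⟨n, hn⟩ ⟨w, hw⟩
    obtain ⟨j, rfl⟩ := mem_zpowers_iff.1 hw
    refine ⟨n, Subtype.ext ?_⟩
    change (g ^ j) ^ 5 ^ n = 1
    rw [← zpow_natCast, ← _root_.zpow_mul, mul_comm, _root_.zpow_mul, zpow_natCast, hn, _root_.one_zpow]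
  obtain ⟨P, hP⟩ := (hzp x hx5).exists_le_sylow
  obtain ⟨Q, hQ⟩ := (hzp y hy5).exists_le_sylow
  obtain ⟨d, hd⟩ := MulAction.exists_smul_eq D Q P
  have hxP : x ∈ P := hP (mem_zpowers x)
  have hyP : d * y * d⁻¹ ∈ P := by
    rw [← hd]
    have : y ∈ Q := hQ (mem_zpowers y)
    exact ⟨y, this, rfl⟩
  -- the common eigenvector
  have hfin : Finite ((P : Subgroup D).map F) := Finite.of_surjective _ (F.subgroupMap_surjective (P : Subgroup D))
  have hPF : IsPGroup 5 ((P : Subgroup D).map F) := P.isPGroup'.map F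
  obtain ⟨χ, v, hv, hχ, hev⟩ := exists_char (by norm_num) h5K hPF ((P : Subgroup D).map F).subtype
    Subtype.val_injective
  have hquad : ∀ t : ((P : Subgroup D).map F), χ t * χ t - (t.1.1).trace * χ t + 1 = 0 := by
    intro t
    set M : Matrix (Fin 2) (Fin 2) K := t.1.1 with hM
    have hMv : M *ᵥ v = χ t • v := hev t
    have hdet : M.det = 1 := t.1.2
    have hCH : M * M - M.trace • M + (1 : Matrix (Fin 2) (Fin 2) K) = 0 := by
      rw [det_fin_two] at hdet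
      ext i j
      fin_cases i <;> fin_cases j <;>
        simp only [Fin.zero_eta, Fin.mk_one, Fin.isValue, Matrix.add_apply, Matrix.sub_apply, Matrix.mul_apply,
          Fin.sum_univ_two, Matrix.smul_apply, smul_eq_mul, trace_fin_two, one_apply_eq, ne_eq, one_ne_zero,
          zero_ne_one, not_false_eq_true, one_apply_ne, add_zero, Matrix.zero_apply]
      · linear_combination -hdet
      · ring
      · ring
      · linear_combination -hdet
    have h1 := congrArg (fun A : Matrix (Fin 2) (Fin 2) K => A *ᵥ v) hCH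
    beta_reduce at h1
    rw [add_mulVec, sub_mulVec, ← mulVec_mulVec, smul_mulVec, hMv, mulVec_smul, hMv, one_mulVec, zero_mulVec,
      smul_smul, smul_smul, ← sub_smul] at h1
    have h2 : (χ t * χ t - M.trace * χ t + 1) • v = 0 := by
      rw [add_smul, one_smul]; exact h1
    exact (smul_eq_zero.1 h2).resolve_right hv
  let X : ((P : Subgroup D).map F) := ⟨F x, x, hxP, rfl⟩
  let Y : ((P : Subgroup D).map F) := ⟨F (d * y * d⁻¹), _, hyP, rfl⟩
  have htrXY : (X.1.1).trace = (Y.1.1).trace := by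
    change (F x).1.trace = (F (d * y * d⁻¹)).1.trace
    have h1 : (F (d * y * d⁻¹)).1 = (F d).1 * (F y).1 * (F d⁻¹).1 := by
      rw [map_mul, map_mul]; rfl
    have h2 : (F d⁻¹).1 * (F d).1 = 1 := by
      have : F d⁻¹ * F d = 1 := by rw [← map_mul, inv_mul_cancel, map_one]
      exact congrArg Subtype.val this
    rw [h1, Matrix.trace_mul_comm, ← Matrix.mul_assoc, h2, Matrix.one_mul, htrF, htrF, htr]
  have qX := hquad X
  have qY := hquad Y
  rw [← htrXY] at qY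
  have hprod : (χ X - χ Y) * (χ X * χ Y - 1) = 0 := by
    linear_combination χ Y * qX - χ X * qY
  have hfinal : F (d * y * d⁻¹) = F x ∨ F (d * y * d⁻¹) = (F x)⁻¹ := by
    rcases mul_eq_zero.1 hprod with h | h
    · left
      have := hχ (sub_eq_zero.1 h)
      exact (congrArg Subtype.val this).symm
    · right
      have h1 : χ (X * Y) = χ 1 := by rw [map_mul, map_one]; exact sub_eq_zero.1 h
      have h2 := hχ h1
      have h3 : Y = X⁻¹ := (inv_eq_of_mul_eq_one_right h2).symm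
      exact congrArg Subtype.val h3
  have hn := no_conj' (h0 d) hy
  rcases hfinal with h | h
  · apply hn.1
    have h1 : F (d * y * d⁻¹ * x⁻¹) = 1 := by rw [map_mul, h, map_inv, mul_inv_cancel]
    have h2 := hF _ h1
    rw [map_mul, map_inv, mul_inv_eq_one, hx] at h2
    rw [← h2, map_mul, map_mul, map_inv]
  · apply hn.2
    have h1 : F (d * y * d⁻¹ * x) = 1 := by rw [map_mul, h, inv_mul_cancel]
    have h2 := hF _ h1
    rw [map_mul, hx, mul_eq_one_iff_eq_inv] at h2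
    rw [← h2, map_mul, map_mul, map_inv]

/-- the 5-part -/
theorem five_part {D : Type*} [Group D] [Finite D] (ψ : D →* Equiv.Perm (Fin 6)) {d : D} (h : ψ d = c5) :
    ∃ m : ℕ, ψ (d ^ m) = c5 ∧ ∃ n, (d ^ m) ^ 5 ^ n = 1 := by
  have hp5 : Fact (Nat.Prime 5) := ⟨Nat.prime_five⟩
  obtain ⟨n, w, hw, hnw⟩ : ∃ n w : ℕ, ¬ 5 ∣ w ∧ orderOf d = 5 ^ n * w :=
    Nat.exists_eq_pow_mul_and_not_dvd (orderOf_pos d).ne' 5 (by norm_num)
  have hc : Nat.Coprime w 5 := ((Nat.Prime.coprime_iff_not_dvd Nat.prime_five).2 hw).symm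
  obtain ⟨t, ht⟩ : ∃ t : ℕ, w * t ≡ 1 [MOD 5] := by
    obtain ⟨t, ht⟩ := Nat.exists_mul_mod_eq_one_of_coprime hc (by norm_num)
    exact ⟨t, by rw [Nat.ModEq, ht.2]⟩
  refine ⟨w * t, ?_, n, ?_⟩
  · rw [map_pow, h]
    have h1 : c5 ^ (w * t) = c5 ^ 1 := by
      rw [pow_eq_pow_iff_modEq]
      have : orderOf c5 = 5 := orderOf_eq_prime c5_pow (by decide)
      rw [this]
      exact ht
    rw [h1, pow_one]
  · rw [← pow_mul]
    have : w * t * 5 ^ n = orderOf d * t := by rw [hnw]; ring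
    rw [this, pow_mul, pow_orderOf_eq_one, one_pow]

variable {G : Type*} [Group G]
variable {P N0 : Subgroup G} {z s : G} {ψ : ↥(normalizer (P : Set G)) →* Equiv.Perm (Fin 6)}

/-- conjugation by an element normalising `N0` preserves `C(N0)` -/
theorem conj_comm {r x : G} (hr : r ∈ normalizer (N0 : Set G)) (hx : ∀ n ∈ N0, x * n = n * x) :
    ∀ n ∈ N0, r * x * r⁻¹ * n = n * (r * x * r⁻¹) := by
  intro n hn
  have h1 : r⁻¹ * n * r ∈ N0 := by
    have h2 := (mem_normalizer_iff.1 (inv_mem hr) n).1 hn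
    rwa [inv_inv] at h2
  have h3 := hx _ h1
  calc r * x * r⁻¹ * n = r * (x * (r⁻¹ * n * r)) * r⁻¹ := by group
    _ = r * ((r⁻¹ * n * r) * x) * r⁻¹ := by rw [h3]
    _ = n * (r * x * r⁻¹) := by group

/-- **the pair**: `x ∈ C(N0)` a 5-element, `r ∈ N_H(N0)` inverting `s`, `ψ x = c5`, `ψ (r x r⁻¹) = c5³` -/
theorem exists_pair [Finite G] (C : CB P N0 z s ψ) : ∃ x r : ↥(normalizer (P : Set G)),
    (∀ n ∈ N0, (x : G) * n = n * x) ∧ (∃ n, x ^ 5 ^ n = 1) ∧ (r : G) ∈ normalizer (N0 : Set G) ∧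
    (r : G) * s * (r : G)⁻¹ = z * s ∧ ψ r = u4 ∧ ψ x = c5 ∧ ψ (r * x * r⁻¹) = c5 ^ 3 ∧
    (∀ n ∈ N0, ((r * x * r⁻¹ : ↥(normalizer (P : Set G))) : G) * n = n * (r * x * r⁻¹ : ↥(normalizer (P : Set G)))) := by
  obtain ⟨r, -, hr, hrN, hrψ, hrs⟩ := conj_s C (π := u4) (by rw [sign_u4]; decide)
  obtain ⟨h, hh, hhψ⟩ := C.even c5 sign_c5
  obtain ⟨m, hm, n, hn⟩ := five_part ψ hhψ
  have hc : ∀ n ∈ N0, ((h ^ m : ↥(normalizer (P : Set G))) : G) * n = n * (h ^ m : ↥(normalizer (P : Set G))) := by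
    intro n hn
    rw [SubmonoidClass.coe_pow]
    exact (show Commute (h : G) n from hh n hn).pow_left m
  refine ⟨h ^ m, ⟨r, hr⟩, hc, ⟨n, hn⟩, hrN, hrs, hrψ, hm, ?_, conj_comm hrN hc⟩
  rw [map_mul, map_mul, map_inv, hm, hrψ, u4_conj]

end Cfsg.Agent.H754.Co3
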