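import Cfsg.Agent.H13.Co3.Tools

/-!
# S1920, case B: two commuting involutions of `N0` and elements separating them (helper754)
-/

set_option autoImplicit false

open Subgroup

namespace Cfsg.Agent.H754.Co3

open Cfsg.Agent.H13.Co3

variable {G : Type*} [Group G]
variable {P N0 : Subgroup G} {z s : G} {ψ : ↥(normalizer (P : Set G)) →* Equiv.Perm (Fin 6)}

theorem left_eq_mul₀' {z x : G} (h : x = z * x) : z = 1 := by
  have h1 : 1 * x = z * x := by rw [one_mul]; exact h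
  exact (mul_right_cancel h1).symm

theorem zN (C : CB P N0 z s ψ) : z ∈ N0 := C.PN C.zP

theorem z_comm (C : CB P N0 z s ψ) {n : G} (hn : n ∈ N0) : n * z = z * n := C.z_cen n (C.NH hn)

theorem order_s (C : CB P N0 z s ψ) : orderOf s = 4 := by
  have h4 : s ^ 4 = 1 := by
    have : s ^ 4 = (s * s) * (s * s) := by
      simp only [pow_succ, pow_zero, one_mul, mul_assoc]
    rw [this, C.s_sq, C.z_sq]
  have h2 : s ^ 2 ≠ 1 := by
    rw [pow_two, C.s_sq]
    exact C.z_ne
  have h : orderOf s ∣ 2 ^ 2 := orderOf_dvd_of_pow_eq_one (by rw [show (2 : ℕ) ^ 2 = 4 by norm_num, h4])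
  obtain ⟨j, hj, h'⟩ := (Nat.dvd_prime_pow Nat.prime_two).1 h
  interval_cases j
  · exfalso
    apply h2
    rw [pow_zero, orderOf_eq_one_iff] at h'
    rw [h', one_pow]
  · exfalso
    apply h2
    rw [pow_one] at h'
    rw [← h', pow_orderOf_eq_one]
  · rw [h']; norm_num

/-- an element of `N0`, modified by `s`, has square 1 -/
theorem fix_sq (C : CB P N0 z s ψ) {a : G} (ha : a ∈ N0) : ∃ a' ∈ N0, a' * a' = 1 ∧ (a' = a ∨ a' = s * a) := by
  rcases C.sq a ha with h | h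
  · exact ⟨a, ha, h, Or.inl rfl⟩
  · refine ⟨s * a, mul_mem C.sN ha, ?_, Or.inr rfl⟩
    have h1 := C.s_cen a ha
    calc s * a * (s * a) = s * (a * s) * a := by simp only [mul_assoc]
      _ = (s * s) * (a * a) := by rw [h1]; simp only [mul_assoc]
      _ = 1 := by rw [C.s_sq, h, C.z_sq]

/-- **a frame of `N0`** -/
theorem exists_frame [Finite G] (C : CB P N0 z s ψ) : ∃ a ∈ N0, ∃ b ∈ N0, ∃ m₁ ∈ N0, ∃ m₂ ∈ N0, a * a = 1 ∧ b * b = 1 ∧
    a * b = b * a ∧ a * m₁ = z * (m₁ * a) ∧ b * m₁ = m₁ * b ∧ a * m₂ = m₂ * a ∧ b * m₂ = z * (m₂ * b) := by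
  classical
  have hzs : Nat.card (zpowers s) = 4 := by rw [Nat.card_zpowers, order_s C]
  -- `a`
  obtain ⟨a₀, ha₀, ha₀s⟩ : ∃ a₀ ∈ N0, a₀ ∉ zpowers s := by
    by_contra hcon
    push Not at hcon
    have h1 : N0 ≤ zpowers s := hcon
    have h2 := Nat.le_of_dvd (by rw [hzs]; norm_num) (card_dvd_of_le h1)
    rw [hzs, C.card] at h2
    omega
  obtain ⟨a, ha, haa, ha'⟩ := fix_sq C ha₀
  have has : a ∉ zpowers s := by
    rcases ha' with rfl | rfl
    · exact ha₀s
    · intro h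
      exact ha₀s ((Subgroup.mul_mem_cancel_left _ (mem_zpowers s)).1 h)
  have anti : ∀ x ∈ N0, x ∉ zpowers s → ∃ m ∈ N0, x * m = z * (m * x) := by
    intro x hx hxs
    have h : ¬ ∀ m ∈ N0, x * m = m * x := fun h => hxs (C.cen x hx h)
    push Not at h
    obtain ⟨m, hm, hne⟩ := h
    exact ⟨m, hm, (C.comm x hx m hm).resolve_left hne⟩
  obtain ⟨n₁, hn₁, han₁⟩ := anti a ha has
  -- `b`
  obtain ⟨b₀, hb₀, hab₀, hb₀s, hb₀a⟩ : ∃ b₀ ∈ N0, a * b₀ = b₀ * a ∧ b₀ ∉ zpowers s ∧ a * b₀ ∉ zpowers s := by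
    by_contra hcon
    push Not at hcon
    let Ca : Subgroup G := N0 ⊓ centralizer ({a} : Set G)
    have hCa : ∀ x, x ∈ Ca ↔ x ∈ N0 ∧ a * x = x * a := by
      intro x
      rw [mem_inf, mem_centralizer_singleton_iff]
      exact ⟨fun h => ⟨h.1, h.2.symm⟩, fun h => ⟨h.1, h.2.symm⟩⟩
    have h1 : Nat.card Ca ≤ 8 := by
      let F : ↥(zpowers s) × Bool → G := fun p => if p.2 then (p.1 : G) else a⁻¹ * p.1
      have hsub : (Ca : Set G) ⊆ Set.range F := by
        intro x hx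
        obtain ⟨hxN, hax⟩ := (hCa x).1 hx
        by_cases hxs : x ∈ zpowers s
        · exact ⟨(⟨x, hxs⟩, true), rfl⟩
        · have := hcon x hxN hax hxs
          refine ⟨(⟨a * x, this⟩, false), ?_⟩
          change a⁻¹ * (a * x) = x
          group
      have h2 : Nat.card Ca ≤ Nat.card (Set.range F) := Nat.card_mono (Set.toFinite _) hsub
      have h3 : Nat.card (Set.range F) ≤ Nat.card (↥(zpowers s) × Bool) := Finite.card_range_le F
      rw [Nat.card_prod, hzs, Nat.card_eq_fintype_card (α := Bool), Fintype.card_bool] at h3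
      omega
    have h2 : Nat.card N0 ≤ 2 * Nat.card Ca := by
      let F : ↥Ca × Bool → G := fun p => if p.2 then (p.1 : G) else n₁ * p.1
      have hsub : (N0 : Set G) ⊆ Set.range F := by
        intro x hx
        rcases C.comm a ha x hx with h | h
        · exact ⟨(⟨x, (hCa x).2 ⟨hx, h⟩⟩, true), rfl⟩
        · refine ⟨(⟨n₁⁻¹ * x, (hCa _).2 ⟨mul_mem (inv_mem hn₁) hx, ?_⟩⟩, false), ?_⟩
          · have e1 : a * n₁⁻¹ = z * (n₁⁻¹ * a) := by
              have h5 : n₁ * a = z * (a * n₁) := by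
                rw [han₁, ← mul_assoc, C.z_sq, one_mul]
              have h6 : z * n₁⁻¹ = n₁⁻¹ * z := (z_comm C (inv_mem hn₁)).symm
              calc a * n₁⁻¹ = n₁⁻¹ * (n₁ * a) * n₁⁻¹ := by group
                _ = n₁⁻¹ * (z * (a * n₁)) * n₁⁻¹ := by rw [h5]
                _ = n₁⁻¹ * z * a := by group
                _ = z * (n₁⁻¹ * a) := by rw [← h6, mul_assoc]
            calc a * (n₁⁻¹ * x) = (a * n₁⁻¹) * x := by rw [mul_assoc]
              _ = z * n₁⁻¹ * (a * x) := by rw [e1]; simp only [mul_assoc]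
              _ = z * n₁⁻¹ * (z * (x * a)) := by rw [h]
              _ = z * (n₁⁻¹ * z) * (x * a) := by simp only [mul_assoc]
              _ = z * (z * n₁⁻¹) * (x * a) := by rw [z_comm C (inv_mem hn₁)]
              _ = (z * z) * (n₁⁻¹ * x * a) := by simp only [mul_assoc]
              _ = n₁⁻¹ * x * a := by rw [C.z_sq, one_mul]
          · change n₁ * (n₁⁻¹ * x) = x
            group
      have h2 : Nat.card N0 ≤ Nat.card (Set.range F) := Nat.card_mono (Set.toFinite _) hsub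
      have h3 : Nat.card (Set.range F) ≤ Nat.card (↥Ca × Bool) := Finite.card_range_le F
      rw [Nat.card_prod, Nat.card_eq_fintype_card (α := Bool), Fintype.card_bool] at h3
      omega
    rw [C.card] at h2
    omega
  obtain ⟨b, hb, hbb, hb'⟩ := fix_sq C hb₀
  have hab : a * b = b * a := by
    rcases hb' with rfl | rfl
    · exact hab₀
    · rw [← mul_assoc, C.s_cen a ha, mul_assoc, hab₀, mul_assoc]
  have hbs : b ∉ zpowers s := by
    rcases hb' with rfl | rfl
    · exact hb₀s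
    · intro h
      exact hb₀s ((Subgroup.mul_mem_cancel_left _ (mem_zpowers s)).1 h)
  have habs : a * b ∉ zpowers s := by
    rcases hb' with rfl | rfl
    · exact hb₀a
    · intro h
      rw [← mul_assoc, C.s_cen a ha, mul_assoc] at h
      exact hb₀a ((Subgroup.mul_mem_cancel_left _ (mem_zpowers s)).1 h)
  obtain ⟨n₂, hn₂, hbn₂⟩ := anti b hb hbs
  obtain ⟨n₃, hn₃, habn₃⟩ := anti (a * b) (mul_mem ha hb) habs
  have hzz : ∀ y : G, z * (z * y) = y := fun y => by rw [← mul_assoc, C.z_sq, one_mul]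
  have hza : a * z = z * a := z_comm C ha
  have hzb : b * z = z * b := z_comm C hb
  -- products
  have prod : ∀ x ∈ N0, ∀ n ∈ N0, ∀ m ∈ N0, x * n = z * (n * x) → x * m = z * (m * x) → x * (n * m) = n * m * x := by
    intro x hx n hn m hm h1 h2
    calc x * (n * m) = (x * n) * m := by rw [mul_assoc]
      _ = z * (n * (x * m)) := by rw [h1]; simp only [mul_assoc]
      _ = z * (n * z * (m * x)) := by rw [h2]; simp only [mul_assoc]
      _ = z * (z * n * (m * x)) := by rw [z_comm C hn]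
      _ = n * m * x := by rw [mul_assoc, hzz, mul_assoc]
  have prod' : ∀ x ∈ N0, ∀ n ∈ N0, ∀ m ∈ N0, x * n = n * x → x * m = z * (m * x) →
      x * (n * m) = z * (n * m * x) := by
    intro x hx n hn m hm h1 h2
    calc x * (n * m) = (x * n) * m := by rw [mul_assoc]
      _ = n * (x * m) := by rw [h1, mul_assoc]
      _ = n * z * (m * x) := by rw [h2]; simp only [mul_assoc]
      _ = z * n * (m * x) := by rw [z_comm C hn]
      _ = z * (n * m * x) := by simp only [mul_assoc]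
  have hn₃' : (a * n₃ = z * (n₃ * a) ∧ b * n₃ = n₃ * b) ∨ (a * n₃ = n₃ * a ∧ b * n₃ = z * (n₃ * b)) := by
    rcases C.comm a ha n₃ hn₃ with h1 | h1 <;> rcases C.comm b hb n₃ hn₃ with h2 | h2
    · exfalso
      have h3 : a * b * n₃ = n₃ * (a * b) := by
        rw [mul_assoc, h2, ← mul_assoc, h1, mul_assoc]
      rw [h3] at habn₃
      exact C.z_ne (left_eq_mul₀' habn₃)
    · exact Or.inr ⟨h1, h2⟩
    · exact Or.inl ⟨h1, h2⟩
    · exfalso
      have h3 : a * b * n₃ = n₃ * (a * b) := by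
        calc a * b * n₃ = a * (b * n₃) := by rw [mul_assoc]
          _ = a * z * (n₃ * b) := by rw [h2, mul_assoc]
          _ = z * (a * n₃) * b := by rw [hza]; simp only [mul_assoc]
          _ = z * (z * (n₃ * a)) * b := by rw [h1]
          _ = n₃ * (a * b) := by rw [hzz, mul_assoc]
      rw [h3] at habn₃
      exact C.z_ne (left_eq_mul₀' habn₃)
  rcases hn₃' with ⟨h1, h2⟩ | ⟨h1, h2⟩
  · rcases C.comm a ha n₂ hn₂ with h3 | h3
    · exact ⟨a, ha, b, hb, n₃, hn₃, n₂, hn₂, haa, hbb, hab, h1, h2, h3, hbn₂⟩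
    · exact ⟨a, ha, b, hb, n₃, hn₃, n₃ * n₂, mul_mem hn₃ hn₂, haa, hbb, hab, h1, h2,
        prod a ha n₃ hn₃ n₂ hn₂ h1 h3, prod' b hb n₃ hn₃ n₂ hn₂ h2 hbn₂⟩
  · rcases C.comm b hb n₁ hn₁ with h3 | h3
    · exact ⟨a, ha, b, hb, n₁, hn₁, n₃, hn₃, haa, hbb, hab, han₁, h3, h1, h2⟩
    · exact ⟨a, ha, b, hb, n₃ * n₁, mul_mem hn₃ hn₁, n₃, hn₃, haa, hbb, hab,
        prod' a ha n₃ hn₃ n₁ hn₁ h1 han₁, prod b hb n₃ hn₃ n₁ hn₁ h2 h3, h1, h2⟩

end Cfsg.Agent.H754.Co3
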