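import Cfsg.Agent.H754.Co3.SLTwo
import Cfsg.Agent.H754.Co3.Frame
import Cfsg.Agent.H754.Co3.Eig

/-!
# S1920, case B: REP16, (U1) (helper754)

A 16-dimensional representation of `N_G(P)` over a field of characteristic `≠ 2, 3` with `z ↦ -1`, such that elements of
`C_G(N0)` in the kernel are in the kernel of `ψ`, does not exist.

* `rep16` : the field contains a square root of `-1`;
* `rep16_field` : any field;
* `rep16_sub`, `rep16_field_sub` : the representation is given on a subgroup `Γ ≥ N_G(P)`.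
-/

set_option autoImplicit false

open Subgroup

open scoped commutatorElement

namespace Cfsg.Agent.H754.Co3

open Cfsg.Agent.H13.Co3 Module Matrix

section sl

variable {k : Type*} [Field k] {U : Type*} [AddCommGroup U] [Module k U]

/-- a 2-dimensional invariant subspace gives a homomorphism of the commutator subgroup to `SL₂` -/
theorem exists_sl {D : Type*} [Group D] (ρ : D →* (U →ₗ[k] U)) (W : Submodule k U) (hW : finrank k W = 2)
    (hinv : ∀ d, ∀ u ∈ W, ρ d u ∈ W) :
    ∃ f : ↥(_root_.commutator D) →* SpecialLinearGroup (Fin 2) k, ∀ d, f d = 1 → ∀ u ∈ W, ρ d u = u := by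
  have hfin : Module.Finite k W := Module.finite_of_finrank_pos (by omega)
  let B := finBasisOfFinrankEq k W hW
  let r : D →* (W →ₗ[k] W) :=
    { toFun := fun d => (ρ d).restrict (hinv d)
      map_one' := by
        apply LinearMap.ext
        intro u
        apply Subtype.ext
        change ρ 1 u = u
        rw [map_one]
        rfl
      map_mul' := fun d e => by
        apply LinearMap.ext
        intro u
        apply Subtype.ext
        change ρ (d * e) u = ρ d (ρ e u)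
        rw [map_mul]
        rfl }
  let φ : D →* Matrix (Fin 2) (Fin 2) k :=
    ((LinearMap.toMatrixAlgEquiv B : (W →ₗ[k] W) ≃ₐ[k] Matrix (Fin 2) (Fin 2) k) : (W →ₗ[k] W) →* _).comp r
  have hφ : ∀ d, φ d = LinearMap.toMatrixAlgEquiv B (r d) := fun _ => rfl
  let δ : D →* kˣ := (Matrix.detMonoidHom.comp φ).toHomUnits
  have hδ : ∀ d : ↥(_root_.commutator D), (φ d).det = 1 := by
    intro d
    have h1 : (d : D) ∈ δ.ker := Abelianization.commutator_subset_ker δ d.2
    have h2 : ((δ (d : D) : kˣ) : k) = (φ d).det := rfl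
    rw [← h2, MonoidHom.mem_ker.1 h1, Units.val_one]
  refine ⟨{ toFun := fun d => ⟨φ d, hδ d⟩
            map_one' := Subtype.ext (by
              change φ ((1 : ↥(_root_.commutator D)) : D) = 1
              rw [OneMemClass.coe_one, map_one])
            map_mul' := fun d e => Subtype.ext (by
              change φ ((d * e : ↥(_root_.commutator D)) : D) = φ d * φ e
              rw [Subgroup.coe_mul, map_mul]) }, fun d hd u hu => ?_⟩
  have h1 : φ d = 1 := congrArg Subtype.val hd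
  rw [hφ] at h1
  have h2 : r d = 1 := by
    apply (LinearMap.toMatrixAlgEquiv B).injective
    rw [h1, map_one]
  have h3 := LinearMap.congr_fun h2 ⟨u, hu⟩
  exact congrArg Subtype.val h3

end sl

variable {G : Type*} [Group G]
variable {P N0 : Subgroup G} {z s : G} {ψ : ↥(normalizer (P : Set G)) →* Equiv.Perm (Fin 6)}

section

variable {k : Type*} [Field k] {Γ : Type*} [Group Γ] {U : Type*} [AddCommGroup U] [Module k U]
  {ρ : Γ →* (U →ₗ[k] U)}

theorem app_mul (g h : Γ) (u : U) : ρ g (ρ h u) = ρ (g * h) u := by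
  rw [map_mul]; rfl

theorem ev_inv {g t : Γ} {d : k} {E : Submodule k U} (h : g * t = t * g) (hE : ∀ u ∈ E, ρ g u ∈ E) :
    ∀ u ∈ ev ρ t d E, ρ g u ∈ ev ρ t d E := by
  intro u hu
  rw [mem_ev] at hu ⊢
  refine ⟨hE u hu.1, ?_⟩
  rw [app_mul, ← h, ← app_mul, hu.2, map_smul]

theorem anti_of {g t z : Γ} (hz : ρ z = -1) (h : t * g = z * (g * t)) (u : U) : ρ t (ρ g u) = -ρ g (ρ t u) := by
  rw [app_mul, h, ← app_mul, ← app_mul, hz]
  rfl

theorem comm_inv {g t : Γ} (h : g * t = t * g) : g⁻¹ * t = t * g⁻¹ := by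
  calc g⁻¹ * t = g⁻¹ * (t * g) * g⁻¹ := by group
    _ = g⁻¹ * (g * t) * g⁻¹ := by rw [h]
    _ = t * g⁻¹ := by group

end

/-- the commutator subgroup of a group mapping onto `A₆` maps onto `A₆` -/
theorem commutator_onto {D : Type*} [Group D] (ψ : D →* Equiv.Perm (Fin 6)) (h0 : ∀ d, Equiv.Perm.sign (ψ d) = 1)
    (h : ∀ π : Equiv.Perm (Fin 6), Equiv.Perm.sign π = 1 → ∃ d, ψ d = π) :
    ∀ π : Equiv.Perm (Fin 6), Equiv.Perm.sign π = 1 → ∃ d : ↥(_root_.commutator D), ψ d = π := by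
  have h6 : IsSimpleGroup (alternatingGroup (Fin 6)) := alternatingGroup.isSimpleGroup (by simp)
  let φ : D →* alternatingGroup (Fin 6) := ψ.codRestrict _ fun d => Equiv.Perm.mem_alternatingGroup.2 (h0 d)
  have hφ : Function.Surjective φ := by
    intro π
    obtain ⟨d, hd⟩ := h π (Equiv.Perm.mem_alternatingGroup.1 π.2)
    exact ⟨d, Subtype.ext hd⟩
  have hp : _root_.commutator (alternatingGroup (Fin 6)) = ⊤ := by
    rcases (inferInstance : (_root_.commutator (alternatingGroup (Fin 6))).Normal).eq_bot_or_eq_top with h1 | h1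
    · exfalso
      have hab : ∀ a b : alternatingGroup (Fin 6), a * b = b * a := by
        intro a b
        have h2 : ⁅a, b⁆ ∈ _root_.commutator (alternatingGroup (Fin 6)) :=
          Subgroup.commutator_mem_commutator (Subgroup.mem_top a) (Subgroup.mem_top b)
        rw [h1, Subgroup.mem_bot] at h2
        exact commutatorElement_eq_one_iff_mul_comm.1 h2
      have h1 := hab ⟨Equiv.swap 0 1 * Equiv.swap 1 2, Equiv.Perm.mem_alternatingGroup.2 (by decide)⟩
        ⟨Equiv.swap 0 1 * Equiv.swap 1 3, Equiv.Perm.mem_alternatingGroup.2 (by decide)⟩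
      have h2 := congrArg Subtype.val h1
      revert h2
      decide
    · exact h1
  intro π hπ
  have h1 : (⟨π, Equiv.Perm.mem_alternatingGroup.2 hπ⟩ : alternatingGroup (Fin 6)) ∈
      (_root_.commutator D).map φ := by
    have h2 : (_root_.commutator D).map φ = _root_.commutator (alternatingGroup (Fin 6)) := by
      rw [_root_.commutator_def, Subgroup.map_commutator, Subgroup.map_top_of_surjective φ hφ, _root_.commutator_def]
    rw [h2, hp]
    exact Subgroup.mem_top _
  obtain ⟨d, hd, hd'⟩ := h1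
  exact ⟨⟨d, hd⟩, congrArg Subtype.val hd'⟩

/-- **REP16 (U1)**, `N_G(P)` acts on `U`, `dim U = 16` -/
theorem rep16 [Finite G] (C : CB P N0 z s ψ) {k : Type*} [Field k] {U : Type*} [AddCommGroup U] [Module k U]
    (ρ : ↥(normalizer (P : Set G)) →* (U →ₗ[k] U)) (hU : finrank k U = 16) (h2 : (2 : k) ≠ 0) (h3 : (3 : k) ≠ 0)
    {i : k} (hi : i * i = -1) (hz : ρ ⟨z, C.NH (zN C)⟩ = -1)
    (hf : ∀ g : ↥(normalizer (P : Set G)), (∀ n ∈ N0, (g : G) * n = n * g) → ρ g = 1 → ψ g = 1) : False := by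
  have hfin : Module.Finite k U := Module.finite_of_finrank_pos (by omega)
  obtain ⟨a, ha, b, hb, m₁, hm₁, m₂, hm₂, haa, hbb, hab, ham₁, hbm₁, ham₂, hbm₂⟩ := exists_frame C
  obtain ⟨r, hr, -, hrs⟩ := exists_conj_s C
  -- the elements of `H`
  set zH : ↥(normalizer (P : Set G)) := ⟨z, C.NH (zN C)⟩ with hzH
  let sH : ↥(normalizer (P : Set G)) := ⟨s, C.NH C.sN⟩
  let aH : ↥(normalizer (P : Set G)) := ⟨a, C.NH ha⟩
  let bH : ↥(normalizer (P : Set G)) := ⟨b, C.NH hb⟩
  let mH : ↥(normalizer (P : Set G)) := ⟨m₁, C.NH hm₁⟩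
  let nH : ↥(normalizer (P : Set G)) := ⟨m₂, C.NH hm₂⟩
  let rH : ↥(normalizer (P : Set G)) := ⟨r, hr⟩
  have ess : sH * sH = zH := Subtype.ext C.s_sq
  have eaa : aH * aH = 1 := Subtype.ext haa
  have ebb : bH * bH = 1 := Subtype.ext hbb
  have eab : aH * bH = bH * aH := Subtype.ext hab
  have ezr : rH * zH = zH * rH := Subtype.ext (C.z_cen r hr)
  have esr : sH * rH = zH * (rH * sH) := by
    apply Subtype.ext
    change s * r = z * (r * s)
    have h1 : r * s = z * s * r := by rw [← hrs]; group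
    rw [h1, mul_assoc, ← mul_assoc z z, C.z_sq, one_mul]
  have eas : aH * sH = sH * aH := Subtype.ext (C.s_cen a ha)
  have ebs : bH * sH = sH * bH := Subtype.ext (C.s_cen b hb)
  have ems : mH * sH = sH * mH := Subtype.ext (C.s_cen m₁ hm₁)
  have ens : nH * sH = sH * nH := Subtype.ext (C.s_cen m₂ hm₂)
  have eam : aH * mH = zH * (mH * aH) := Subtype.ext ham₁
  have ena : nH * aH = aH * nH := Subtype.ext ham₂.symm
  have ebn : bH * nH = zH * (nH * bH) := Subtype.ext hbm₂
  have ebm : bH * mH = mH * bH := Subtype.ext hbm₁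
  have hzu : ∀ u, ρ zH u = -u := fun u => by rw [hz]; rfl
  have h1u : ∀ u, ρ 1 u = u := fun u => by rw [map_one]; rfl
  -- the chain of eigenspaces
  have As : ∀ σ : k, σ * σ = -1 → Anti ρ sH σ ⊤ rH := fun σ hσ =>
    { two := h2
      dne := by rintro rfl; rw [mul_zero] at hσ; exact one_ne_zero (neg_eq_zero.1 hσ.symm)
      sq := fun u _ => by rw [app_mul, ess, hzu, hσ, neg_one_smul]
      tE := fun _ _ => Submodule.mem_top
      gE := fun _ _ => Submodule.mem_top
      gE' := fun _ _ => Submodule.mem_top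
      anti := anti_of hz esr }
  have Aa : ∀ σ : k, Anti ρ aH 1 (ev ρ sH σ ⊤) mH := fun σ =>
    { two := h2
      dne := one_ne_zero
      sq := fun u _ => by rw [app_mul, eaa, h1u, mul_one, one_smul]
      tE := ev_inv eas fun _ _ => Submodule.mem_top
      gE := ev_inv ems fun _ _ => Submodule.mem_top
      gE' := ev_inv (comm_inv ems) fun _ _ => Submodule.mem_top
      anti := anti_of hz eam }
  have Ab : ∀ σ : k, Anti ρ bH 1 (ev ρ aH 1 (ev ρ sH σ ⊤)) nH := fun σ =>
    { two := h2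
      dne := one_ne_zero
      sq := fun u _ => by rw [app_mul, ebb, h1u, mul_one, one_smul]
      tE := ev_inv eab.symm (ev_inv ebs fun _ _ => Submodule.mem_top)
      gE := ev_inv ena (ev_inv ens fun _ _ => Submodule.mem_top)
      gE' := ev_inv (comm_inv ena) (ev_inv (comm_inv ens) fun _ _ => Submodule.mem_top)
      anti := anti_of hz ebn }
  have hdim : ∀ σ : k, σ * σ = -1 → finrank k (ev ρ bH 1 (ev ρ aH 1 (ev ρ sH σ ⊤))) = 2 := by
    intro σ hσ
    have e1 := (As σ hσ).half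
    have e2 := (Aa σ).half
    have e3 := (Ab σ).half
    rw [finrank_top, hU] at e1
    omega
  -- the group `C(N0)`
  let D : Subgroup ↥(normalizer (P : Set G)) := (centralizer (N0 : Set G)).subgroupOf (normalizer (P : Set G))
  have hD : ∀ d : ↥D, ∀ n ∈ N0, ((d : ↥(normalizer (P : Set G))) : G) * n = n * ((d : ↥(normalizer (P : Set G))) : G) := by
    intro d n hn
    exact (mem_centralizer_iff.1 (mem_subgroupOf.1 d.2) n hn).symm
  have hcomm : ∀ (d : ↥D) (n : ↥(normalizer (P : Set G))), (n : G) ∈ N0 → (d : ↥(normalizer (P : Set G))) * n = n * d :=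
    fun d n hn => Subtype.ext (hD d n hn)
  have hinv : ∀ (σ : k) (d : ↥D), ∀ u ∈ ev ρ bH 1 (ev ρ aH 1 (ev ρ sH σ ⊤)),
      (ρ.comp D.subtype) d u ∈ ev ρ bH 1 (ev ρ aH 1 (ev ρ sH σ ⊤)) := fun σ d =>
    ev_inv (hcomm d bH hb) (ev_inv (hcomm d aH ha) (ev_inv (hcomm d sH C.sN) fun _ _ => Submodule.mem_top))
  have hi' : (-i) * (-i) = -1 := by rw [neg_mul_neg, hi]
  obtain ⟨f₁, hf₁⟩ := exists_sl (ρ.comp D.subtype) _ (hdim i hi) (hinv i)
  obtain ⟨f₂, hf₂⟩ := exists_sl (ρ.comp D.subtype) _ (hdim (-i) hi') (hinv (-i))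
  let ψD : ↥D →* Equiv.Perm (Fin 6) := ψ.comp D.subtype
  have hψ0 : ∀ d : ↥D, Equiv.Perm.sign (ψD d) = 1 := by
    intro d
    have hN : ((d : ↥(normalizer (P : Set G))) : G) ∈ normalizer (N0 : Set G) := by
      rw [mem_normalizer_iff]
      intro n
      have key : ∀ n ∈ N0, ((d : ↥(normalizer (P : Set G))) : G) * n * ((d : ↥(normalizer (P : Set G))) : G)⁻¹ = n := by
        intro n hn
        rw [hD d n hn, mul_inv_cancel_right]
      refine ⟨fun hn => by rw [key n hn]; exact hn, fun hn => ?_⟩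
      have h1 := hD d _ hn
      have h2 : n = ((d : ↥(normalizer (P : Set G))) : G) * n * ((d : ↥(normalizer (P : Set G))) : G)⁻¹ := by
        have h4 := congrArg (fun y => ((d : ↥(normalizer (P : Set G))) : G)⁻¹ * y) h1
        beta_reduce at h4
        have h5 : ((d : ↥(normalizer (P : Set G))) : G)⁻¹ * (((d : ↥(normalizer (P : Set G))) : G) *
          (((d : ↥(normalizer (P : Set G))) : G) * n * ((d : ↥(normalizer (P : Set G))) : G)⁻¹)) =
          ((d : ↥(normalizer (P : Set G))) : G) * n * ((d : ↥(normalizer (P : Set G))) : G)⁻¹ := by group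
        have h6 : ((d : ↥(normalizer (P : Set G))) : G)⁻¹ * (((d : ↥(normalizer (P : Set G))) : G) * n *
          ((d : ↥(normalizer (P : Set G))) : G)⁻¹ * ((d : ↥(normalizer (P : Set G))) : G)) = n := by group
        rw [h5, h6] at h4
        exact h4.symm
      rw [h2]
      exact hn
    exact (C.inv_s _ hN).2 (hD d s C.sN)
  have hψ1 : ∀ π : Equiv.Perm (Fin 6), Equiv.Perm.sign π = 1 → ∃ d : ↥D, ψD d = π := by
    intro π hπ
    obtain ⟨h, hh, hπ'⟩ := C.even π hπ
    exact ⟨⟨h, mem_subgroupOf.2 (mem_centralizer_iff.2 fun n hn => (hh n hn).symm)⟩, hπ'⟩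
  refine no_A6_two h3 f₁ f₂ (ψD.comp (_root_.commutator ↥D).subtype) (fun d h₁ h₂ => ?_)
    (fun d => hψ0 d) (commutator_onto ψD hψ0 hψ1)
  refine hf ((d : ↥D) : ↥(normalizer (P : Set G))) (hD d) ?_
  apply LinearMap.ext
  intro u
  -- trivial on the eigenspaces of `s`
  have hE : ∀ σ : k, (∀ u ∈ ev ρ bH 1 (ev ρ aH 1 (ev ρ sH σ ⊤)), ρ ((d : ↥D) : ↥(normalizer (P : Set G))) u = u) →
      ∀ u ∈ ev ρ sH σ ⊤, ρ ((d : ↥D) : ↥(normalizer (P : Set G))) u = u := by
    intro σ hσ
    refine (Aa σ).triv ((Ab σ).triv hσ ?_) ?_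
    · intro u
      rw [app_mul, app_mul, hcomm d nH hm₂]
    · intro u
      rw [app_mul, app_mul, hcomm d mH hm₁]
  obtain ⟨x, hx, y, hy, rfl⟩ := (As i hi).dec (u := u) Submodule.mem_top
  rw [map_add, hE i (hf₁ d h₁) x hx, hE (-i) (hf₂ d h₂) y hy]
  rfl

/-- **REP16 (U1)**, any field -/
theorem rep16_field [Finite G] (C : CB P N0 z s ψ) {F : Type*} [Field F] {U : Type*} [AddCommGroup U] [Module F U]
    (ρ : ↥(normalizer (P : Set G)) →* (U →ₗ[F] U)) (hU : finrank F U = 16) (h2 : (2 : F) ≠ 0) (h3 : (3 : F) ≠ 0)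
    (hz : ρ ⟨z, C.NH (zN C)⟩ = -1)
    (hf : ∀ g : ↥(normalizer (P : Set G)), (∀ n ∈ N0, (g : G) * n = n * g) → ρ g = 1 → ψ g = 1) : False := by
  have hfin : Module.Finite F U := Module.finite_of_finrank_pos (by omega)
  let K := AlgebraicClosure F
  let B := finBasisOfFinrankEq F U hU
  let e₁ : (U →ₗ[F] U) →+* Matrix (Fin 16) (Fin 16) F :=
    ((LinearMap.toMatrixAlgEquiv B : (U →ₗ[F] U) ≃ₐ[F] Matrix (Fin 16) (Fin 16) F) : (U →ₗ[F] U) →+* _)
  let e₂ : Matrix (Fin 16) (Fin 16) F →+* Matrix (Fin 16) (Fin 16) K := (algebraMap F K).mapMatrix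
  let e₃ : Matrix (Fin 16) (Fin 16) K →+* ((Fin 16 → K) →ₗ[K] (Fin 16 → K)) :=
    ((Matrix.toLinAlgEquiv' : Matrix (Fin 16) (Fin 16) K ≃ₐ[K] ((Fin 16 → K) →ₗ[K] (Fin 16 → K))) :
      Matrix (Fin 16) (Fin 16) K →+* _)
  have i₁ : Function.Injective e₁ := (LinearMap.toMatrixAlgEquiv B).injective
  have i₂ : Function.Injective e₂ := by
    intro x y hxy
    ext i j
    have h1 : algebraMap F K (x i j) = algebraMap F K (y i j) := congrFun (congrFun hxy i) j
    exact (algebraMap F K).injective h1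
  have i₃ : Function.Injective e₃ := Matrix.toLinAlgEquiv'.injective
  let E : (U →ₗ[F] U) →+* ((Fin 16 → K) →ₗ[K] (Fin 16 → K)) := e₃.comp (e₂.comp e₁)
  have iE : Function.Injective E := i₃.comp (i₂.comp i₁)
  have hK : ∀ n : ℕ, (n : F) ≠ 0 → (n : K) ≠ 0 := by
    intro n hn h
    apply hn
    apply (algebraMap F K).injective
    rw [map_zero, ← h, map_natCast]
  obtain ⟨i, hi⟩ := IsAlgClosed.exists_eq_mul_self (-1 : K)
  refine rep16 C (U := Fin 16 → K) (E.toMonoidHom.comp ρ) (by rw [finrank_pi, Fintype.card_fin]) (by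
      have := hK 2 (by exact_mod_cast h2)
      exact_mod_cast this) (by
      have := hK 3 (by exact_mod_cast h3)
      exact_mod_cast this) hi.symm ?_ fun g hg h => hf g hg ?_
  · change E (ρ ⟨z, C.NH (zN C)⟩) = -1
    rw [hz, map_neg, map_one]
  · apply iE
    rw [map_one]
    exact h

/-- **REP16 (U1)**, any field, the representation on a subgroup `Γ ≥ N_G(P)` -/
theorem rep16_sub [Finite G] (C : CB P N0 z s ψ) {F : Type*} [Field F] {U : Type*} [AddCommGroup U] [Module F U]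
    {Γ : Subgroup G} (hΓ : normalizer (P : Set G) ≤ Γ) (ρ : ↥Γ →* (U →ₗ[F] U)) (hU : finrank F U = 16)
    (h2 : (2 : F) ≠ 0) (h3 : (3 : F) ≠ 0) (hz : ρ ⟨z, hΓ (C.NH (zN C))⟩ = -1)
    (hf : ∀ g (hg : g ∈ Γ), (∀ n ∈ N0, g * n = n * g) → ρ ⟨g, hg⟩ = 1 → g = 1) : False :=
  rep16_field C (ρ.comp (inclusion hΓ)) hU h2 h3 hz fun g hg h => by
    have h1 : (g : G) = 1 := hf g (hΓ g.2) hg h
    have h2 : g = 1 := Subtype.ext h1
    rw [h2, map_one]

/-- **REP16 (U1)** for a representation of `C_G(z)` -/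
theorem rep16_cent [Finite G] (C : CB P N0 z s ψ) {F : Type*} [Field F] {U : Type*} [AddCommGroup U] [Module F U]
    (ρ : ↥(centralizer ({z} : Set G)) →* (U →ₗ[F] U)) (hU : finrank F U = 16)
    (h2 : (2 : F) ≠ 0) (h3 : (3 : F) ≠ 0)
    (hz : ∀ h : z ∈ centralizer ({z} : Set G), ρ ⟨z, h⟩ = -1)
    (hf : ∀ g (hg : g ∈ centralizer ({z} : Set G)), (∀ n ∈ N0, g * n = n * g) → ρ ⟨g, hg⟩ = 1 → g = 1) : False :=
  rep16_sub C (Γ := centralizer ({z} : Set G))
    (fun g hg => mem_centralizer_singleton_iff.2 (C.z_cen g hg)) ρ hU h2 h3 (hz _) hf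

end Cfsg.Agent.H754.Co3
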